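import Cfsg.Agent.Lib.Spor.Cos.Act

/-! Data and checks for a subgroup. -/

set_option autoImplicit false
set_option maxRecDepth 100000
set_option maxHeartbeats 4000000

namespace Cfsg.Agent.Spor.Cos.ON.M11

def actBTB0 : Bst := .node 3 (.node 1 (.leaf 0x1300020008000600010012001100070010000f0001000e0000000d0004000c000b0000000a0009000800070000000200060001000500000004000300020001) (.node 2 (.leaf 0x140005002100200019001f001e0005001d0004001c000b001b001a0019000400030018000b000d001800110003001800170016001500030002001400070008) (.leaf 0x900170029002800160009001600160027001d00090026000f000800120025000700240013001b0012000600140023001e000a000600220005001b00220010))) (.node 5 (.node 4 (.leaf 0x22000e001b001f00110027000e001e000d0015002c002e002d0025000d002c000c0010001f00130024000c001a002b000e002a000c0019000a000b0028000a) (.leaf 0x15001e00260035002c0034002700150034001c00200014001a00130033003200300023002a0012001f002b0010001100310030000f002f002f00200025000f)) (.node 6 (.leaf 0x2000310032002100280036002e001d001c002d003500290026002c001d001c002b00220034001a002a001900230033003500330017002d002e003500180017) (.leaf 0x36002e0031003000290028002d002700250026002b0031003300290024002a00320032002f00240021002f003600340023002100300036)))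

/-- The table actBT. -/
def actBT : Tab := ⟨actBTB0, 64, 3⟩

/-- An action on 55 points. -/
def actB : Act := ⟨4, 55, actBT⟩

end Cfsg.Agent.Spor.Cos.ON.M11
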