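import Cfsg.Agent.Lib.Spor.Cos.ON.M11.ActBData
import Cfsg.Agent.Lib.Spor.Cos.ON.M11.Words

/-! Data and checks for a subgroup. -/

set_option autoImplicit false
set_option maxRecDepth 100000
set_option maxHeartbeats 4000000

namespace Cfsg.Agent.Spor.Cos.ON.M11

theorem actB_rels0 : allBlock (actB.chkFix words) 55 64 0 = true := by decide +kernel

theorem actB_rels : ∀ i < 55, (actB.chkFix words) i = true :=
  of_blocks (size := 64) (b := 1) (by decide) (by decide) fun j hj => by
    interval_cases j
    · exact actB_rels0

end Cfsg.Agent.Spor.Cos.ON.M11
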