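import Cfsg.Agent.Lib.Spor.Cos.Simple
import Cfsg.Agent.Lib.Spor.Cos.ON.M11.ActBData

/-! Data and checks for a subgroup. -/

set_option autoImplicit false
set_option maxRecDepth 100000
set_option maxHeartbeats 4000000

namespace Cfsg.Agent.Spor.Cos.ON.M11

def lv0EB0 : Bst := .node 2 (.node 1 (.leaf 0x20005000f00000005000e00020004000d00000004000c00030003000b00010003000a000000030009000300020008000200020007000300010006000100010005000300000004000200000003000100000002000000000001000000000000) (.leaf 0x2000e001f0001000e001e0003000d001d0001000d001c0003000c001b0002000c001a0001000c00190000000a0018000300090017000200090016000100090015000200080014000300070013000200060012000100060011000300050010)) (.node 3 (.leaf 0x30020002f0000001d002e0003001c002d0000001c002c0000001a002b00020019002a0001001700290000001700280003001500270000001500260000001400250002001300240000001200230001001000220001000f00210000000f0020) (.leaf 0x2002e0036000000270035000300250034000100240033000000240032000300210031000200210030))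

/-- The table lv0E. -/
def lv0E : Tab := ⟨lv0EB0, 48, 4⟩

def lv0PB0 : Bst := .node 2 (.node 1 (.leaf 0xf000e000d000c000b000a0009000800070006000500040003000200010000) (.leaf 0x1f001e001d001c001b001a0019001800170016001500140013001200110010)) (.node 3 (.leaf 0x2f002e002d002c002b002a0029002800270026002500240023002200210020) (.leaf 0x36003500340033003200310030))

/-- The table lv0P. -/
def lv0P : Tab := ⟨lv0PB0, 16, 4⟩

/-- The words of `lv0`. -/
def lv0W : List (List ℕ) := [[0], [1], [2], [3]]

/-- An orbit of 55 points. -/
def lv0 : Orb := ⟨55, lv0E, lv0P⟩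

theorem lv0_ents : ∀ i < 55, (lv0.chkEnt actB lv0W 0) i = true :=
  of_blocks (size := 2048) (b := 1) (by decide) (by decide) fun j hj => by
    interval_cases j
    · exact (by decide +kernel : allBlock (lv0.chkEnt actB lv0W 0) 55 2048 0 = true)

theorem lv0_ok : lv0.Ok actB lv0W 0 where
  letters := by decide +kernel
  pos := by decide +kernel
  ents := lv0_ents

def lv1EB0 : Bst := .node 1 (.leaf 0x20006000c00000006001800030005001b00030004002e00020004000f00010004002000030003001c00030002002300000002001f000300010022000100010010000300000012000200000013000100000005000000000006000000000002) (.node 2 (.leaf 0x10010002d0003000d00140003000c00280002000c000a0003000b00300003000a000d0002000a00320000000a000e00030009002c00020009002900010009000b00030008002a000100080024000000080007000300070003000300060026) (.leaf 0x20017001500030016001d000300150031000000110016))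

/-- The table lv1E. -/
def lv1E : Tab := ⟨lv1EB0, 48, 4⟩

def lv1PB0 : Bst := .node 2 (.node 1 (.leaf 0xb0018001a000f0015001c0000000000120001000200000011000000000000) (.leaf 0x7000000220009000d00000000000e000000200023001e0003000400000005)) (.node 3 (.leaf 0xc001f0017000000140016001d0000001000000013000800060000000a) (.leaf 0x190021001b))

/-- The table lv1P. -/
def lv1P : Tab := ⟨lv1PB0, 16, 4⟩

/-- The words of `lv1`. -/
def lv1W : List (List ℕ) := [[0, 2, 0], [1, 0, 1], [3, 1, 3], [1, 2, 0, 3, 0], [0, 2, 3, 0, 2, 0, 2, 0, 3, 2, 0], [0, 2, 0, 1, 0, 1, 3, 1, 3, 0, 2, 0]]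

/-- An orbit of 36 points. -/
def lv1 : Orb := ⟨36, lv1E, lv1P⟩

theorem lv1_ents : ∀ i < 36, (lv1.chkEnt actB lv1W 2) i = true :=
  of_blocks (size := 2048) (b := 1) (by decide) (by decide) fun j hj => by
    interval_cases j
    · exact (by decide +kernel : allBlock (lv1.chkEnt actB lv1W 2) 36 2048 0 = true)

theorem lv1_ok : lv1.Ok actB lv1W 2 where
  letters := by decide +kernel
  pos := by decide +kernel
  ents := lv1_ents

def lv2EB0 : Bst := .leaf 0x100010036000100000027000000000011000000000001

/-- The table lv2E. -/
def lv2E : Tab := ⟨lv2EB0, 48, 4⟩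

def lv2PB0 : Bst := .node 2 (.node 1 (.leaf 0) (.leaf 0x10000)) (.node 3 (.leaf 0x20000000000000000000000000000) (.leaf 0x3000000000000000000000000))

/-- The table lv2P. -/
def lv2P : Tab := ⟨lv2PB0, 16, 4⟩

/-- The words of `lv2`. -/
def lv2W : List (List ℕ) := [[0, 2, 3, 0, 2, 0, 2, 0, 3, 2, 0], [0, 2, 0, 1, 0, 1, 3, 1, 3, 0, 2, 0]]

/-- An orbit of 4 points. -/
def lv2 : Orb := ⟨4, lv2E, lv2P⟩

theorem lv2_ents : ∀ i < 4, (lv2.chkEnt actB lv2W 1) i = true :=
  of_blocks (size := 2048) (b := 1) (by decide) (by decide) fun j hj => by
    interval_cases j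
    · exact (by decide +kernel : allBlock (lv2.chkEnt actB lv2W 1) 4 2048 0 = true)

theorem lv2_ok : lv2.Ok actB lv2W 1 where
  letters := by decide +kernel
  pos := by decide +kernel
  ents := lv2_ents

def sa0EB0 : Bst := .node 1 (.leaf 0x50004003600010004000800050003002b00030003001900020003003300050002001700040002002100030002003400030001000400020001003500050000002700040000001100030000001a00010000001e000000000009000000000001) (.leaf 0x10009002500020008002f)

/-- The table sa0E. -/
def sa0E : Tab := ⟨sa0EB0, 48, 4⟩

def sa0PB0 : Bst := .node 2 (.node 1 (.leaf 0x1000e00000000000000070000000000000000) (.leaf 0x20000000000000003000c0000000a0000000000000000000000040000)) (.node 3 (.leaf 0x10000000000000000d00000000000000050000001100000000000000090000) (.leaf 0xf00060008000b000000000000))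

/-- The table sa0P. -/
def sa0P : Tab := ⟨sa0PB0, 16, 4⟩

/-- An orbit of 18 points. -/
def sa0 : Orb := ⟨18, sa0E, sa0P⟩

theorem sa0_ents : ∀ i < 18, (sa0.chkEnt actB lv1W 1) i = true :=
  of_blocks (size := 2048) (b := 1) (by decide) (by decide) fun j hj => by
    interval_cases j
    · exact (by decide +kernel : allBlock (sa0.chkEnt actB lv1W 1) 18 2048 0 = true)

theorem sa0_ok : sa0.Ok actB lv1W 1 where
  letters := by decide +kernel
  pos := by decide +kernel
  ents := sa0_ents

theorem sa0_closed : ∀ i < 18, (sa0.chkClosed actB lv1W) i = true :=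
  of_blocks (size := 2048) (b := 1) (by decide) (by decide) fun j hj => by
    interval_cases j
    · exact (by decide +kernel : allBlock (sa0.chkClosed actB lv1W) 18 2048 0 = true)

def sa1EB0 : Bst := .node 1 (.leaf 0x50004001b00030004002e00020004000f00010004002000030003001c00040002002600030002002300000002001f000400010031000300010022000100010010000300000012000200000013000100000005000000000006000000000002) (.node 2 (.leaf 0x2000c00320000000c000e0003000b002c0002000b00290001000b000b0001000a002d00030009002a00010009002400030008000300030007000700020007001400010007003000000007001500020006000c00000006001800040005000d) (.leaf 0x30010001600010010001d0003000e00280002000e000a))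

/-- The table sa1E. -/
def sa1E : Tab := ⟨sa1EB0, 48, 4⟩

def sa1PB0 : Bst := .node 2 (.node 1 (.leaf 0xd001e00100012001b00200000000000160001000200000017000000000000) (.leaf 0x800000022000b000f00000000001100000023001300150003000400000005)) (.node 3 (.leaf 0xe001a001d00000019001c00210000000a00000018000900060000000c) (.leaf 0x1f00070014))

/-- The table sa1P. -/
def sa1P : Tab := ⟨sa1PB0, 16, 4⟩

/-- An orbit of 36 points. -/
def sa1 : Orb := ⟨36, sa1E, sa1P⟩

theorem sa1_ents : ∀ i < 36, (sa1.chkEnt actB lv1W 2) i = true :=
  of_blocks (size := 2048) (b := 1) (by decide) (by decide) fun j hj => by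
    interval_cases j
    · exact (by decide +kernel : allBlock (sa1.chkEnt actB lv1W 2) 36 2048 0 = true)

theorem sa1_ok : sa1.Ok actB lv1W 2 where
  letters := by decide +kernel
  pos := by decide +kernel
  ents := sa1_ents

theorem sa1_closed : ∀ i < 36, (sa1.chkClosed actB lv1W) i = true :=
  of_blocks (size := 2048) (b := 1) (by decide) (by decide) fun j hj => by
    interval_cases j
    · exact (by decide +kernel : allBlock (sa1.chkClosed actB lv1W) 36 2048 0 = true)

/-- The orbits of the point stabiliser. -/
def saList : List (Orb × ℕ) := [(sa0, 1), (sa1, 2)]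

end Cfsg.Agent.Spor.Cos.ON.M11
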