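import Cfsg.Agent.Lib.Spor.Cos.ON.M11.TopPart0

/-! A checked coset enumeration. -/

set_option autoImplicit false
set_option maxRecDepth 100000
set_option maxHeartbeats 4000000

namespace Cfsg.Agent.Spor.Cos.ON.M11

theorem top_def0 : allBlock top.chkDef 659 512 0 = true := by decide +kernel

theorem top_def1 : allBlock top.chkDef 659 512 1 = true := by decide +kernel

theorem top_defs : ∀ i, i + 1 < top.M → top.chkDef i = true := by
  intro i hi
  change i + 1 < 660 at hi
  refine of_allBlock (n := 659) (size := 512) (by decide) (fun j hj => ?_) (by omega)
  have hj' : j < 2 := by omega
  interval_cases j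
  · exact top_def0
  · exact top_def1

theorem top_facts : ∀ i, top.M ≤ i + 1 → i < top.nF → ∃ J, top.chkFact i J = true := by
  exact top.facts_of_covers (top.covers_of_part _ _ _ top_part0) rfl rfl

theorem top_final0 : allBlock top.chkFinal 2640 512 0 = true := by decide +kernel

theorem top_final1 : allBlock top.chkFinal 2640 512 1 = true := by decide +kernel

theorem top_final2 : allBlock top.chkFinal 2640 512 2 = true := by decide +kernel

theorem top_final3 : allBlock top.chkFinal 2640 512 3 = true := by decide +kernel

theorem top_final4 : allBlock top.chkFinal 2640 512 4 = true := by decide +kernel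

theorem top_final5 : allBlock top.chkFinal 2640 512 5 = true := by decide +kernel

theorem top_checks : top.Checks where
  pos := by decide +kernel
  defs := top_defs
  facts := top_facts
  final := by
    intro k hk
    change k < 660 * 4 at hk
    refine of_allBlock (n := 2640) (size := 512) (by decide) (fun j hj => ?_) (by omega)
    have hj' : j < 6 := by omega
    interval_cases j
    · exact top_final0
    · exact top_final1
    · exact top_final2
    · exact top_final3
    · exact top_final4
    · exact top_final5

theorem top_derived : top.rels.all (derivedOk top.n topBase) = true := by decide +kernel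

end Cfsg.Agent.Spor.Cos.ON.M11
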