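import Cfsg.Agent.Lib.Spor.Cos.ON.Sub
import Cfsg.Agent.Lib.Spor.Cos.ON.M11.Words
import Cfsg.Agent.Lib.Spor.Cos.ON.M11.OrbData
import Cfsg.Agent.Lib.Spor.Cos.ON.M11.TopCert
import Cfsg.Agent.Lib.Spor.Cos.ON.M11.LowCert
import Cfsg.Agent.Lib.Spor.Cos.ON.M11.ActBInv
import Cfsg.Agent.Lib.Spor.Cos.ON.M11.ActBRel

/-! A simple subgroup of order 7920 of the O'Nan group. -/

set_option autoImplicit false
set_option maxRecDepth 100000
set_option maxHeartbeats 4000000

namespace Cfsg.Agent.Spor.Cos.ON.M11

theorem sub_gens_sq (s : ℕ) : subGen gens s * subGen gens s = 1 := subGen_sq (k := 4) rfl (by decide +kernel) s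

theorem sub_gens_words : ∀ w ∈ words, ev (subGen gens) w = 1 := sub_words (by decide +kernel)

theorem pair_gens_words : ∀ w ∈ words, ev (pair gens actB) w = 1 :=
  pair_words gens actB actB_inv (by decide +kernel) actB_rels sub_gens_words

theorem upper : Finite (pairs gens actB) ∧ Nat.card (pairs gens actB) ≤ 7920 := by
  have hs := pair_sq gens actB sub_gens_sq
  have h0 : Bound (pair gens actB) [] 1 := Bound.nil
  have h1 : Bound (pair gens actB) [0, 1] 12 :=
    Bound.step (d := 4) hs h0 low low_checks rfl (by decide +kernel)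
      (hbase_of hs pair_gens_words (n := 4) (by decide +kernel)) low_derived
  have h2 : Bound (pair gens actB) (List.range 4) 7920 :=
    Bound.step (d := 4) hs h1 top top_checks rfl (by decide +kernel)
      (hbase_of hs pair_gens_words (n := 4) (by decide +kernel)) top_derived
  exact Bound.top h2 (pair_gen gens actB)

theorem lev [Finite (pairs gens actB)] : LevR (pair gens actB) actB (pairPerm gens actB) (singles (List.range 4)) 7920 [0, 2, 1] ∧
    LevR (pair gens actB) actB (pairPerm gens actB) lv1W 144 [2, 1] := by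
  have h3 : LevR (pair gens actB) actB (pairPerm gens actB) [] 1 [] := LevR.nil
  have h2 : LevR (pair gens actB) actB (pairPerm gens actB) lv2W 4 [1] :=
    LevR.step (hom_pair gens actB actB_inv) h3 lv2_ok (by decide +kernel) (by decide +kernel) (by decide +kernel)
  have h1 : LevR (pair gens actB) actB (pairPerm gens actB) lv1W 144 [2, 1] :=
    LevR.step (hom_pair gens actB actB_inv) h2 lv1_ok (by decide +kernel) (by decide +kernel) (by decide +kernel)
  have h0 : LevR (pair gens actB) actB (pairPerm gens actB) (singles (List.range 4)) 7920 [0, 2, 1] :=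
    LevR.step (hom_pair gens actB actB_inv) h1 lv0_ok (by decide +kernel) (by decide +kernel) (by decide +kernel)
  exact ⟨h0, h1⟩

theorem saList_ok : ∀ o ∈ saList, o.1.Ok actB lv1W o.2 ∧ ∀ j < o.1.m, o.1.chkClosed actB lv1W j = true := by
  intro o ho
  simp only [saList, List.mem_cons, List.not_mem_nil, or_false] at ho
  rcases ho with rfl | rfl
  · exact ⟨sa0_ok, sa0_closed⟩
  · exact ⟨sa1_ok, sa1_closed⟩

theorem exists_subgroup : ∃ K : Subgroup Spor.ON, IsSimpleGroup K ∧ Nat.card K = 7920 := by
  have := upper.1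
  obtain ⟨hcard, hdet⟩ := (lev.1.top (pair_gen gens actB) upper.2)
  set base : Fin actB.N := ⟨0, lv0_ok.root_lt⟩
  have hπ := hom_pair gens actB actB_inv
  have htr : ∀ p, ∃ y, pairPerm gens actB y base = p := exists_apply_eq hπ lv0_ok rfl
  have hK : val (pair gens actB) lv1W = stab (pairPerm gens actB) base :=
    val_eq_stab hπ htr (k := 144) (by decide +kernel) (by decide +kernel) lev.2.le upper.2
  have hsimple : IsSimpleGroup (pairs gens actB) := by
    refine isSimpleGroup_of (p := 11) (W := [[1, 2, 1, 0, 3, 2, 3, 1, 2, 1, 0, 1], [0, 3, 2, 1, 0, 2, 0], [0, 3, 2, 1, 0, 2, 0], [0, 3, 2, 1, 0, 2, 0]]) hπ (pair_gen gens actB) hdet htr (by decide +kernel) hK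
      saList_ok (fun q hq => (by decide +kernel : ∀ q < 55, chkPartition saList 0 q = true) q hq) (by decide +kernel)
      (by norm_num) ?_ (by decide +kernel)
    rw [card_stab htr (k := 144) hcard]
    decide +kernel
  refine ON.exists_subgroup gens actB (by decide +kernel) ?_ hcard
  intro h
  have h1 := homA.apply_ev (gens.getD 0 []) (Wide.Act.lt_of_lettersOk (ws := [gens.getD 0 []]) (by decide +kernel)
    (List.mem_singleton_self _))
  have h2 : ([0, 1, 65, 34].all fun r => Nat.beq (actA.go (gens.getD 0 []) r) r) = false := by decide +kernel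
  have h3 : ([0, 1, 65, 34].all fun r => Nat.beq (actA.go (gens.getD 0 []) r) r) = true := by
    refine List.all_eq_true.2 fun r hr => ?_
    have hr' : r < actA.N := by fin_cases hr <;> decide +kernel
    have := h1 ⟨r, hr'⟩
    rw [show ev g (gens.getD 0 []) = 1 from h, map_one, Equiv.Perm.one_apply] at this
    rw [← this]
    exact Nat.beq_refl _
  rw [h2] at h3
  exact Bool.noConfusion h3

end Cfsg.Agent.Spor.Cos.ON.M11
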