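import Cfsg.Agent.Lib.Spor.Cos.Log

/-!
Data of a coset enumeration with 12 cosets.
-/

set_option autoImplicit false
set_option maxRecDepth 100000
set_option maxHeartbeats 4000000

namespace Cfsg.Agent.Spor.Cos.ON.M11

def lowFactsT0 : Tree := .leaf 0xb0000a10000b0000910000a00008000009000070000080000610000700005100006000040000050000300000400002100003000011000020000000000100000

/-- The table lowFacts. -/
def lowFacts : Table := ⟨lowFactsT0, 0, 44, 6⟩

def lowFinalT0 : Tree := .leaf 0xa80005c00026000160000a000044000240000f00006800040000160000e000060000240001400007000028000200000600006000020000040000400000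

/-- The table lowFinal. -/
def lowFinal : Table := ⟨lowFinalT0, 0, 21, 6⟩

/-- The base words of `low`. -/
def lowBase : List (List ℕ) := [[0, 1, 0, 1, 0, 1, 0, 1, 0, 1, 0, 1]]

/-- The certificate `low`. -/
def low : Log where
  n := 2
  N := 12
  M := 12
  nF := 12
  facts := lowFacts
  final := lowFinal
  rels := [[1, 0, 1, 0, 1, 0, 1, 0, 1, 0, 1, 0]]
  sub := []

end Cfsg.Agent.Spor.Cos.ON.M11
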