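import Cfsg.Agent.Lib.Spor.Cos.ON.M11.LowData

/-! Checks of the facts of a coset enumeration. -/

set_option autoImplicit false
set_option maxRecDepth 100000
set_option maxHeartbeats 4000000

namespace Cfsg.Agent.Spor.Cos.ON.M11

theorem low_part0 : low.chkPart 11 12 [(1, 0x90000380001400006000010000040000a00009000068000440002a00058000582c00)] = true := by decide +kernel

end Cfsg.Agent.Spor.Cos.ON.M11
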